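import Groth.Agent.DTenPro.KoszulTower
import Mathlib.Algebra.Homology.DerivedCategory.ShortExact
import Mathlib.RingTheory.Noetherian.Basic

/-! Right exact linear functors send the Koszul augmentation to pro-isomorphisms. -/

set_option linter.style.haveILetI false

universe u

open CategoryTheory CategoryTheory.Limits CochainComplex Opposite

attribute [local instance] HasDerivedCategory.standard

namespace Groth.Agent.DTenPro

set_option maxHeartbeats 400000

variable {A : Type u} [CommRing A]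

lemma exists_kernel_bound {M : ModuleCat.{u} A} [IsNoetherian A M] (f : A) :
    ∃ c : ℕ, ∀ (j : ℕ) (x : M), f ^ j • x = 0 → f ^ c • x = 0 := by
  let K : ℕ →o Submodule A M :=
    { toFun := fun j => LinearMap.ker (LinearMap.lsmul A M (f ^ j))
      monotone' := fun i j hij x hx => by
        rw [LinearMap.mem_ker, LinearMap.lsmul_apply] at hx ⊢
        rw [← Nat.sub_add_cancel hij, pow_add, mul_smul, hx, smul_zero] }
  obtain ⟨c, hc⟩ := monotone_stabilizes_iff_noetherian.2 (inferInstance : IsNoetherian A M) K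
  refine ⟨c, fun j x hx => ?_⟩
  have h : x ∈ K (max c j) := K.monotone (le_max_right c j) (show x ∈ K j from hx)
  rw [← hc _ (le_max_left c j)] at h
  exact h

section ConeLemmas

variable {C : Type*} [Category C] [Abelian C] {K₁ L₁ K₂ L₂ R R' : CochainComplex C ℤ}
  {φ₁ : K₁ ⟶ L₁} {φ₂ : K₂ ⟶ L₂}

lemma map_congr {a a' : K₁ ⟶ K₂} {b b' : L₁ ⟶ L₂} (ha : a = a') (hb : b = b')
    (h : φ₁ ≫ b = a ≫ φ₂) (h' : φ₁ ≫ b' = a' ≫ φ₂) :
    mappingCone.map φ₁ φ₂ a b h = mappingCone.map φ₁ φ₂ a' b' h' := by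
  subst ha hb
  rfl

/-- The isomorphism of cones of isomorphic morphisms. -/
noncomputable def coneMapIso (eK : K₁ ≅ K₂) (eL : L₁ ≅ L₂) (w : φ₁ ≫ eL.hom = eK.hom ≫ φ₂) :
    mappingCone φ₁ ≅ mappingCone φ₂ where
  hom := mappingCone.map φ₁ φ₂ eK.hom eL.hom w
  inv := mappingCone.map φ₂ φ₁ eK.inv eL.inv (by
    rw [← cancel_epi eK.hom, Iso.hom_inv_id_assoc, ← Category.assoc, ← w, Category.assoc,
      Iso.hom_inv_id, Category.comp_id])
  hom_inv_id := ((mappingCone.map_comp _ _ _ _ _ _ _ _ _).symm.trans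
    (map_congr eK.hom_inv_id eL.hom_inv_id _ (by simp))).trans (mappingCone.map_id _)
  inv_hom_id := ((mappingCone.map_comp _ _ _ _ _ _ _ _ _).symm.trans
    (map_congr eK.inv_hom_id eL.inv_hom_id _ (by simp))).trans (mappingCone.map_id _)

lemma δ_zero_eq {β : L₁ ⟶ R} (hβ : φ₁ ≫ β = 0) :
    HomComplex.δ (-1) 0 (0 : HomComplex.Cochain K₁ R (-1)) = HomComplex.Cochain.ofHom (φ₁ ≫ β) := by
  rw [HomComplex.δ_zero, hβ, HomComplex.Cochain.ofHom_zero]

lemma map_desc_eq (a : K₁ ⟶ K₂) (b : L₁ ⟶ L₂) (w : φ₁ ≫ b = a ≫ φ₂) (β : L₂ ⟶ R) (β' : L₁ ⟶ R)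
    (hb : b ≫ β = β')
    (h : HomComplex.δ (-1) 0 (0 : HomComplex.Cochain K₂ R (-1)) = HomComplex.Cochain.ofHom (φ₂ ≫ β))
    (h' : HomComplex.δ (-1) 0 (0 : HomComplex.Cochain K₁ R (-1)) = HomComplex.Cochain.ofHom (φ₁ ≫ β')) :
    mappingCone.map φ₁ φ₂ a b w ≫ mappingCone.desc φ₂ 0 β h = mappingCone.desc φ₁ 0 β' h' := by
  subst hb
  refine HomologicalComplex.hom_ext _ _ fun p => ?_
  apply mappingCone.ext_from _ (p + 1) p rfl <;> simp [mappingCone.map]

lemma desc_comp_eq (β : L₁ ⟶ R) (z : R ⟶ R') (β' : L₁ ⟶ R') (hz : β ≫ z = β')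
    (h : HomComplex.δ (-1) 0 (0 : HomComplex.Cochain K₁ R (-1)) = HomComplex.Cochain.ofHom (φ₁ ≫ β))
    (h' : HomComplex.δ (-1) 0 (0 : HomComplex.Cochain K₁ R' (-1)) = HomComplex.Cochain.ofHom (φ₁ ≫ β')) :
    mappingCone.desc φ₁ 0 β h ≫ z = mappingCone.desc φ₁ 0 β' h' := by
  subst hz
  refine HomologicalComplex.hom_ext _ _ fun p => ?_
  apply mappingCone.ext_from _ (p + 1) p rfl <;> simp

lemma decomp_snd {E E' P Q R : C} {f₁ : E ⟶ P} {s : E ⟶ Q} {i : P ⟶ E'} {r : Q ⟶ E'} {s' : E' ⟶ Q}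
    (β : Q ⟶ R) (hi : i ≫ s' = 0) (hr : r ≫ s' = 𝟙 Q) :
    (f₁ ≫ i + s ≫ r) ≫ s' ≫ β = s ≫ β := by
  simp [Preadditive.add_comp, reassoc_of% hi, reassoc_of% hr]

end ConeLemmas

variable (f : A) {N N' : ℕᵒᵖ ⥤ ModuleCat.{u} A} (π : N ⟶ N')
  (w : ∀ n : ℕ, (f ^ (n + 1) • 𝟙 (N.obj (op n))) ≫ π.app (op n) = 0)

/-- The cones of multiplication map to the cokernels. -/
noncomputable def coneQuot : coneTower (Functor.whiskerRight (mulMap f N) S0) ⟶ N' ⋙ S0 where
  app n := mappingCone.desc _ 0 (S0.map (π.app n)) (by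
    rw [HomComplex.δ_zero, ← HomComplex.Cochain.ofHom_zero]
    congr 1
    exact ((S0.map_comp _ _).symm.trans ((congrArg S0.map (w n.unop)).trans (Functor.map_zero S0 _ _))).symm)
  naturality i j g := by
    refine HomologicalComplex.hom_ext _ _ fun p => ?_
    apply mappingCone.ext_from _ (p + 1) p rfl
    · simp [coneTower, mappingCone.map]
    · simp [coneTower, mappingCone.map]
      rw [← HomologicalComplex.comp_f, ← HomologicalComplex.comp_f, ← Functor.map_comp, ← Functor.map_comp,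
        π.naturality]

theorem proIso_coneQuot (hN : ∀ n, IsNoetherian A (N.obj n))
    (hex : ∀ n : ℕ, (ShortComplex.mk _ _ (w n)).Exact) (hepi : ∀ n, Epi (π.app n)) :
    DerCA.IsProIso (Functor.whiskerRight (coneQuot f π w) DerivedCategory.Q) := by
  intro n
  haveI := hN (op n)
  obtain ⟨c, hc⟩ := exists_kernel_bound (M := N.obj (op n)) f
  let m : ℕ := n + c
  have hm : n ≤ m := Nat.le_add_right n c
  let σ : N.obj (op m) ⟶ N.obj (op n) := ARSys.tr N hm
  let cl : N.obj (op m) →ₗ[A] N.obj (op m) := LinearMap.lsmul A _ (f ^ (m + 1))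
  let h₀ : N.obj (op m) →ₗ[A] N.obj (op n) := f ^ c • σ.hom
  have hle : LinearMap.ker cl ≤ LinearMap.ker h₀ := fun x hx => by
    rw [LinearMap.mem_ker] at hx ⊢
    refine hc (m + 1) (σ.hom x) ?_
    rw [← map_smul]
    exact (congrArg σ.hom hx).trans (map_zero _)
  let hI : ↥(LinearMap.range cl) →ₗ[A] N.obj (op n) :=
    (LinearMap.ker cl).liftQ h₀ hle ∘ₗ cl.quotKerEquivRange.symm.toLinearMap
  have hI_apply : ∀ x, hI ⟨cl x, LinearMap.mem_range_self cl x⟩ = h₀ x := fun x => by
    show (LinearMap.ker cl).liftQ h₀ hle (cl.quotKerEquivRange.symm ⟨cl x, _⟩) = _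
    rw [LinearMap.quotKerEquivRange_symm_apply_image cl x]
    rfl
  let I : ModuleCat.{u} A := ModuleCat.of A ↥(LinearMap.range cl)
  let ι : I ⟶ N.obj (op m) := ModuleCat.ofHom (LinearMap.range cl).subtype
  let cb : N.obj (op m) ⟶ I := ModuleCat.ofHom cl.rangeRestrict
  have hcι : cb ≫ ι = f ^ (m + 1) • 𝟙 (N.obj (op m)) := ModuleCat.hom_ext (LinearMap.ext fun x => rfl)
  have hch : cb ≫ ModuleCat.ofHom hI = f ^ (m - n) • σ := by
    refine ModuleCat.hom_ext (LinearMap.ext fun x => ?_)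
    rw [show m - n = c by omega]
    exact hI_apply x
  have hισ : ι ≫ σ = ModuleCat.ofHom hI ≫ (f ^ (n + 1) • 𝟙 (N.obj (op n))) := by
    refine ModuleCat.hom_ext (LinearMap.ext fun y => ?_)
    obtain ⟨x, hx⟩ := y.2
    obtain rfl : y = ⟨cl x, LinearMap.mem_range_self cl x⟩ := Subtype.ext hx.symm
    show σ.hom (cl x) = f ^ (n + 1) • hI ⟨cl x, LinearMap.mem_range_self cl x⟩
    rw [hI_apply]
    show σ.hom (f ^ (m + 1) • x) = f ^ (n + 1) • (f ^ c • σ.hom x)
    rw [map_smul, smul_smul, ← pow_add]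
    congr 2
    omega
  have hιπ : ι ≫ π.app (op m) = 0 := by
    refine ModuleCat.hom_ext (LinearMap.ext fun y => ?_)
    obtain ⟨x, hx⟩ := y.2
    show (π.app (op m)).hom (y : N.obj (op m)) = 0
    rw [← hx]
    exact LinearMap.congr_fun (congrArg ModuleCat.Hom.hom (w m)) x
  let T : ShortComplex (ModuleCat.{u} A) := ShortComplex.mk ι (π.app (op m)) hιπ
  haveI := hepi (op m)
  have hT : T.ShortExact :=
    { exact := by
        rw [ShortComplex.moduleCat_exact_iff]
        intro y hy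
        obtain ⟨x, hx⟩ := (ShortComplex.moduleCat_exact_iff _).1 (hex m) y hy
        exact ⟨⟨cl x, LinearMap.mem_range_self cl x⟩, hx⟩
      mono_f := (ModuleCat.mono_iff_injective ι).2 Subtype.val_injective
      epi_g := hepi (op m) }
  haveI : QuasiIso (mappingCone.descShortComplex (T.map S0)) :=
    mappingCone.quasiIso_descShortComplex (hT.map_of_exact S0)
  let φ : ∀ j : ℕ, S0.obj (N.obj (op j)) ⟶ S0.obj (N.obj (op j)) :=
    fun j => S0.map (f ^ (j + 1) • 𝟙 (N.obj (op j)))
  let p : mappingCone (φ m) ⟶ mappingCone (S0.map ι) :=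
    mappingCone.map (φ m) (S0.map ι) (S0.map cb) (𝟙 _) (by
      rw [Category.comp_id, ← Functor.map_comp, hcι])
  let t : mappingCone (S0.map ι) ⟶ mappingCone (φ n) :=
    mappingCone.map (S0.map ι) (φ n) (S0.map (ModuleCat.ofHom hI)) (S0.map σ) (by
      rw [← Functor.map_comp, ← Functor.map_comp, hισ])
  have e1 : p ≫ t = ARSys.tr (coneTower (Functor.whiskerRight (mulMap f N) S0)) hm := by
    refine (mappingCone.map_comp _ _ _ _ _ _ _ _ _).symm.trans ?_
    refine HomologicalComplex.hom_ext _ _ fun q => ?_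
    simp only [← S0.map_comp, hch, Category.id_comp]
    rfl
  have e2 : p ≫ mappingCone.descShortComplex (T.map S0) = (coneQuot f π w).app (op m) :=
    map_desc_eq _ _ _ _ _ (Category.id_comp _) _ (δ_zero_eq
      ((S0.map_comp _ _).symm.trans ((congrArg S0.map (w m)).trans (Functor.map_zero S0 _ _))))
  have e3 : t ≫ (coneQuot f π w).app (op n) =
      mappingCone.descShortComplex (T.map S0) ≫ ARSys.tr (N' ⋙ S0) hm := by
    refine (map_desc_eq _ _ _ _ (S0.map σ ≫ S0.map (π.app (op n))) rfl (δ_zero_eq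
      ((S0.map_comp _ _).symm.trans ((congrArg S0.map (w n)).trans (Functor.map_zero S0 _ _)))) ?_).trans
      (desc_comp_eq _ _ _ ?_ _ _).symm
    · rw [HomComplex.δ_zero, ← HomComplex.Cochain.ofHom_zero]
      congr 1
      refine Eq.symm ?_
      rw [← Functor.map_comp, ← Functor.map_comp, reassoc_of% hισ, w n, comp_zero, Functor.map_zero]
    · exact (S0.map_comp _ _).symm.trans ((congrArg S0.map (π.naturality _).symm).trans (S0.map_comp _ _))
  let b : DerivedCategory.Q.obj (S0.obj (N'.obj (op m))) ⟶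
      DerivedCategory.Q.obj (mappingCone (φ n)) :=
    (asIso (DerivedCategory.Q.map (mappingCone.descShortComplex (T.map S0)))).inv ≫ DerivedCategory.Q.map t
  refine ⟨m, hm, b, ?_, ?_⟩
  · show DerivedCategory.Q.map ((coneQuot f π w).app (op m)) ≫ b =
      DerivedCategory.Q.map (ARSys.tr (coneTower (Functor.whiskerRight (mulMap f N) S0)) hm)
    refine (congrArg (fun z => DerivedCategory.Q.map z ≫ b) e2.symm).trans
      (Eq.trans ?_ (congrArg DerivedCategory.Q.map e1))
    refine (congrArg (· ≫ b) (DerivedCategory.Q.map_comp p _)).trans ((Category.assoc _ _ _).trans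
      (Eq.trans ?_ (DerivedCategory.Q.map_comp p t).symm))
    exact congrArg (DerivedCategory.Q.map p ≫ ·) ((asIso (DerivedCategory.Q.map (mappingCone.descShortComplex (T.map S0)))).hom_inv_id_assoc
      (DerivedCategory.Q.map t))
  · show b ≫ DerivedCategory.Q.map ((coneQuot f π w).app (op n)) =
      DerivedCategory.Q.map (ARSys.tr (N' ⋙ S0) hm)
    refine (Category.assoc _ _ _).trans ((Iso.inv_comp_eq _).2 ?_)
    exact (DerivedCategory.Q.map_comp _ _).symm.trans
      ((congrArg DerivedCategory.Q.map e3).trans (DerivedCategory.Q.map_comp _ _))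

section Base

variable (F : ModuleCat.{u} A ⥤ ModuleCat.{u} A) [F.Additive] [F.Linear A]

/-- `F` applied to complexes. -/
noncomputable abbrev GF : CochainComplex (ModuleCat.{u} A) ℤ ⥤ CochainComplex (ModuleCat.{u} A) ℤ :=
  F.mapHomologicalComplex (ComplexShape.up ℤ)

/-- `F` commutes with complexes in degree zero. -/
noncomputable def σIso : S0 ⋙ GF F ≅ F ⋙ S0 :=
  HomologicalComplex.singleMapHomologicalComplex F (ComplexShape.up ℤ) 0

lemma σIso_comm (r : A) (M : ModuleCat.{u} A) :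
    (GF F).map (r • 𝟙 (S0.obj M)) ≫ (σIso F).hom.app M =
      (σIso F).hom.app M ≫ S0.map (r • 𝟙 (F.obj M)) := by
  rw [Functor.map_smul, CategoryTheory.Functor.map_id, S0_map_smul, CategoryTheory.Functor.map_id,
    Linear.smul_comp, Linear.comp_smul]
  exact congrArg (r • ·) ((Category.id_comp _).trans (Category.comp_id _).symm)

variable (f : A) (M : ℕᵒᵖ ⥤ ModuleCat.{u} A)

/-- The image of a cone of multiplication, as a cone of multiplication. -/
noncomputable def coneAppIso (n : ℕᵒᵖ) :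
    (coneTower (mulMap f (M ⋙ S0)) ⋙ GF F).obj n ≅
      (coneTower (Functor.whiskerRight (mulMap f (M ⋙ F)) S0)).obj n :=
  mappingCone.mapHomologicalComplexIso _ F ≪≫
    coneMapIso ((σIso F).app (M.obj n)) ((σIso F).app (M.obj n)) (σIso_comm F _ (M.obj n))

lemma coneApp_naturality {i j : ℕᵒᵖ} (g : i ⟶ j) :
    (GF F).map ((coneTower (mulMap f (M ⋙ S0))).map g) ≫ (coneAppIso F f M j).hom =
      (coneAppIso F f M i).hom ≫ (coneTower (Functor.whiskerRight (mulMap f (M ⋙ F)) S0)).map g := by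
  have h := (σIso F).hom.naturality (M.map g)
  have h' : (GF F).map (f ^ (i.unop - j.unop) • S0.map (M.map g)) ≫ (σIso F).hom.app (M.obj j) =
      (σIso F).hom.app (M.obj i) ≫ S0.map (f ^ (i.unop - j.unop) • F.map (M.map g)) := by
    rw [Functor.map_smul, S0_map_smul, Linear.smul_comp, Linear.comp_smul]
    exact congrArg _ h
  let c := mulMap f (M ⋙ S0)
  let d := Functor.whiskerRight (mulMap f (M ⋙ F)) S0
  let θ := fun n => mappingCone.map ((GF F).map (c.app n)) (d.app n) ((σIso F).hom.app (M.obj n))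
    ((σIso F).hom.app (M.obj n)) (σIso_comm F _ (M.obj n))
  let e := fun n => (mappingCone.mapHomologicalComplexIso (c.app n) F).hom
  let gc := mappingCone.map ((GF F).map (c.app i)) ((GF F).map (c.app j))
    ((GF F).map ((mulTower f (M ⋙ S0)).map g)) ((GF F).map ((M ⋙ S0).map g))
    (by rw [← Functor.map_comp, ← Functor.map_comp]; exact congrArg _ (c.naturality g).symm)
  have h1 : (GF F).map ((coneTower c).map g) ≫ e j = e i ≫ gc := map_coneMap F _ _ _ _ (c.naturality g).symm
  have hd : d.app i ≫ S0.map (F.map (M.map g)) =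
      S0.map (f ^ (i.unop - j.unop) • F.map (M.map g)) ≫ d.app j := (d.naturality g).symm
  have hi : (GF F).map (c.app i) ≫ (σIso F).hom.app (M.obj i) =
      (σIso F).hom.app (M.obj i) ≫ d.app i := σIso_comm F _ (M.obj i)
  have h2 : gc ≫ θ j = θ i ≫ (coneTower d).map g :=
    (mappingCone.map_comp _ _ _ _ _ _ _ _ _).symm.trans
      ((map_congr h' h _ (((Category.assoc _ _ _).symm.trans (congrArg (· ≫ S0.map (F.map (M.map g))) hi)).trans
        ((Category.assoc _ _ _).trans ((congrArg ((σIso F).hom.app (M.obj i) ≫ ·) hd).trans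
          (Category.assoc _ _ _).symm)))).trans
      (mappingCone.map_comp _ _ _ _ _ _ _ _ (d.naturality g).symm))
  exact (Category.assoc _ _ _).symm.trans ((congrArg (· ≫ θ j) h1).trans ((Category.assoc _ _ _).trans
    ((congrArg (e i ≫ ·) h2).trans (Category.assoc _ _ _).symm)))

/-- The image of the cones of multiplication. -/
noncomputable def coneIso :
    coneTower (mulMap f (M ⋙ S0)) ⋙ GF F ≅
      coneTower (Functor.whiskerRight (mulMap f (M ⋙ F)) S0) :=
  NatIso.ofComponents (fun n => coneAppIso F f M n) (fun g => coneApp_naturality F f M g)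

omit [F.Linear A] in
lemma map_desc₀ {K L R : CochainComplex (ModuleCat.{u} A) ℤ} (φ : K ⟶ L) (β : L ⟶ R)
    (h : HomComplex.δ (-1) 0 (0 : HomComplex.Cochain K R (-1)) = HomComplex.Cochain.ofHom (φ ≫ β))
    (h' : HomComplex.δ (-1) 0 (0 : HomComplex.Cochain ((GF F).obj K) ((GF F).obj R) (-1)) =
      HomComplex.Cochain.ofHom ((GF F).map φ ≫ (GF F).map β)) :
    (GF F).map (mappingCone.desc φ 0 β h) =
      (mappingCone.mapHomologicalComplexIso φ F).hom ≫
        mappingCone.desc ((GF F).map φ) 0 ((GF F).map β) h' := by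
  refine HomologicalComplex.hom_ext _ _ fun q => ?_
  simp [mappingCone.mapHomologicalComplexIso, mappingCone.mapHomologicalComplexXIso_eq _ F q (q + 1) rfl,
    mappingCone.mapHomologicalComplexXIso', mappingCone.desc_f _ _ _ _ q (q + 1) rfl]
  exact (decomp_snd (F.map (β.f q))
    (mappingCone.inl_v_snd_v ((GF F).map φ) (q + 1) q (by omega))
    (mappingCone.inr_f_snd_v ((GF F).map φ) q)).symm

end Base

end Groth.Agent.DTenPro
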