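import Groth.Agent.DTenPro.ProBasic
import Mathlib.Algebra.Homology.Linear

/-! Towers of mapping cones. -/

set_option linter.style.haveILetI false

universe v u

open CategoryTheory CategoryTheory.Limits CochainComplex Opposite

namespace Groth.Agent.DTenPro

variable {C : Type*} [Category C] [Abelian C]

section

variable {J : Type*} [Category J]

/-- The cone of a morphism of diagrams of complexes. -/
noncomputable def coneTower {X Y : J ⥤ CochainComplex C ℤ} (φ : X ⟶ Y) : J ⥤ CochainComplex C ℤ where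
  obj j := mappingCone (φ.app j)
  map {i j} g := mappingCone.map (φ.app i) (φ.app j) (X.map g) (Y.map g) (φ.naturality g).symm
  map_id j := by
    simp only [CategoryTheory.Functor.map_id]
    exact mappingCone.map_id _
  map_comp {i j k} g h := by
    simp only [Functor.map_comp]
    exact mappingCone.map_comp _ _ _ _ _ _ _ _ _

/-- Functoriality of `coneTower`. -/
noncomputable def coneMap {X Y X' Y' : J ⥤ CochainComplex C ℤ} (φ : X ⟶ Y) (φ' : X' ⟶ Y')
    (a : X ⟶ X') (b : Y ⟶ Y') (w : φ ≫ b = a ≫ φ') : coneTower φ ⟶ coneTower φ' where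
  app j := mappingCone.map (φ.app j) (φ'.app j) (a.app j) (b.app j) (NatTrans.congr_app w j)
  naturality i j g := by
    show mappingCone.map _ _ (X.map g) (Y.map g) (φ.naturality g).symm ≫ mappingCone.map _ _ _ _ _ =
      mappingCone.map _ _ _ _ _ ≫ mappingCone.map _ _ (X'.map g) (Y'.map g) (φ'.naturality g).symm
    rw [← mappingCone.map_comp, ← mappingCone.map_comp]
    congr 1
    · exact a.naturality g
    · exact b.naturality g

omit [Category J] in
lemma triangle_mor₃_f {K L : CochainComplex C ℤ} (φ : K ⟶ L) (n : ℤ) :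
    ((mappingCone.triangle φ).mor₃.f n : (mappingCone φ).X n ⟶ K.X (n + 1)) =
      -(mappingCone.fst φ).1.v n (n + 1) rfl := by
  simp [mappingCone.triangle, HomComplex.Cochain.rightShift_v _ 1 0 _ n n _ (n + 1) rfl]
  exact congrArg Neg.neg (Category.comp_id ((mappingCone.fst φ).1.v n (n + 1) rfl))

/-- `L → Cone φ → K[1]` as a short complex. -/
noncomputable abbrev coneSeq {K L : CochainComplex C ℤ} (φ : K ⟶ L) :
    ShortComplex (CochainComplex C ℤ) :=
  ShortComplex.mk (mappingCone.triangle φ).mor₂ (mappingCone.triangle φ).mor₃ (by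
    ext n
    refine (congrArg ((mappingCone.inr φ).f n ≫ ·) (triangle_mor₃_f φ n)).trans ?_
    exact (Preadditive.comp_neg ((mappingCone.inr φ).f n) _).trans
      ((congrArg Neg.neg (mappingCone.inr_f_fst_v φ n (n + 1) rfl)).trans neg_zero))

/-- The degreewise splitting of `coneSeq`. -/
noncomputable def coneSeqSplitting {K L : CochainComplex C ℤ} (φ : K ⟶ L) (n : ℤ) :
    ((coneSeq φ).map (HomologicalComplex.eval C (ComplexShape.up ℤ) n)).Splitting where
  r := (mappingCone.snd φ).v n n (add_zero n)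
  s := -(mappingCone.inl φ).v (n + 1) n (by omega)
  f_r := mappingCone.inr_f_snd_v φ n
  s_g := by
    refine (congrArg ((-(mappingCone.inl φ).v (n + 1) n (by omega)) ≫ ·) (triangle_mor₃_f φ n)).trans ?_
    exact (Preadditive.neg_comp_neg ((mappingCone.inl φ).v (n + 1) n (by omega)) _).trans
      (mappingCone.inl_v_fst_v φ (n + 1) n (by omega))
  id := by
    have e : (((mappingCone.triangle φ).mor₃.f n : (mappingCone φ).X n ⟶ K.X (n + 1)) ≫
        (-(mappingCone.inl φ).v (n + 1) n (by omega))) =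
        (mappingCone.fst φ).1.v n (n + 1) rfl ≫ (mappingCone.inl φ).v (n + 1) n (by omega) :=
      (congrArg (· ≫ _) (triangle_mor₃_f φ n)).trans (Preadditive.neg_comp_neg _ _)
    exact (congrArg ((mappingCone.snd φ).v n n (add_zero n) ≫ (mappingCone.inr φ).f n + ·) e).trans
      ((add_comm _ _).trans (mappingCone.id_X φ n (n + 1) rfl))

/-- `Y → Cone φ → X[1]` as a diagram of short complexes. -/
noncomputable def coneSeqTower {X Y : J ⥤ CochainComplex C ℤ} (φ : X ⟶ Y) :
    J ⥤ ShortComplex (CochainComplex C ℤ) where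
  obj j := coneSeq (φ.app j)
  map {i j} g :=
    { τ₁ := Y.map g
      τ₂ := (coneTower φ).map g
      τ₃ := (X.map g)⟦(1 : ℤ)⟧'
      comm₁₂ := (mappingCone.triangleMap (φ.app i) (φ.app j) (X.map g) (Y.map g) (φ.naturality g).symm).comm₂.symm
      comm₂₃ := (mappingCone.triangleMap (φ.app i) (φ.app j) (X.map g) (Y.map g) (φ.naturality g).symm).comm₃.symm }
  map_id j := by
    ext1
    · exact Y.map_id j
    · exact (coneTower φ).map_id j
    · show (CategoryTheory.shiftFunctor (CochainComplex C ℤ) (1 : ℤ)).map (X.map (𝟙 j)) = _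
      rw [X.map_id]
      exact CategoryTheory.Functor.map_id _ _
  map_comp g h := by
    ext1
    · exact Y.map_comp g h
    · exact (coneTower φ).map_comp g h
    · show (CategoryTheory.shiftFunctor (CochainComplex C ℤ) (1 : ℤ)).map (X.map (g ≫ h)) = _
      rw [X.map_comp]
      exact Functor.map_comp _ _ _

/-- Functoriality of `coneSeqTower`. -/
noncomputable def coneSeqMap {X Y X' Y' : J ⥤ CochainComplex C ℤ} (φ : X ⟶ Y) (φ' : X' ⟶ Y')
    (a : X ⟶ X') (b : Y ⟶ Y') (w : φ ≫ b = a ≫ φ') : coneSeqTower φ ⟶ coneSeqTower φ' where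
  app j :=
    { τ₁ := b.app j
      τ₂ := (coneMap φ φ' a b w).app j
      τ₃ := (a.app j)⟦(1 : ℤ)⟧'
      comm₁₂ := (mappingCone.triangleMap (φ.app j) (φ'.app j) (a.app j) (b.app j) (NatTrans.congr_app w j)).comm₂.symm
      comm₂₃ := (mappingCone.triangleMap (φ.app j) (φ'.app j) (a.app j) (b.app j) (NatTrans.congr_app w j)).comm₃.symm }
  naturality i j g := by
    ext1
    · exact b.naturality g
    · exact (coneMap φ φ' a b w).naturality g
    · exact ((CategoryTheory.shiftFunctor (CochainComplex C ℤ) (1 : ℤ)).map_comp _ _).symm.trans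
        ((congrArg _ (a.naturality g)).trans
          ((CategoryTheory.shiftFunctor (CochainComplex C ℤ) (1 : ℤ)).map_comp _ _))

variable {D : Type*} [Category D] [Abelian D] (F : C ⥤ D) [F.Additive]

omit [Category J] in
lemma key {E₁ E₂ E₁' E₂' P Q P' Q' R R' : D} {f₁ : E₁ ⟶ P} {s₁ : E₁ ⟶ Q} {f₂ : E₂ ⟶ P'} {s₂ : E₂ ⟶ Q'}
    {i₂ : P' ⟶ E₂} {r₂ : Q' ⟶ E₂} {i₁' : P ⟶ E₁'} {r₁' : Q ⟶ E₁'} {i₂' : P' ⟶ E₂'} {r₂' : Q' ⟶ E₂'}
    {π₁ : E₁' ⟶ R} {π₂ : E₂' ⟶ R'} (a : P ⟶ P') (b : Q ⟶ Q') (c : R ⟶ R')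
    (hi : i₂ ≫ (f₂ ≫ i₂' + s₂ ≫ r₂') = i₂') (hr : r₂ ≫ (f₂ ≫ i₂' + s₂ ≫ r₂') = r₂')
    (ha : a ≫ i₂' ≫ π₂ = i₁' ≫ π₁ ≫ c) (hb : b ≫ r₂' ≫ π₂ = r₁' ≫ π₁ ≫ c) :
    (f₁ ≫ a ≫ i₂ + s₁ ≫ b ≫ r₂) ≫ (f₂ ≫ i₂' + s₂ ≫ r₂') ≫ π₂ =
      (f₁ ≫ i₁' + s₁ ≫ r₁') ≫ π₁ ≫ c := by
  refine (Preadditive.add_comp _ _ _ _ _ _).trans
    ((congrArg₂ (· + ·) ?_ ?_).trans (Preadditive.add_comp _ _ _ _ _ _).symm)
  · rw [Category.assoc, Category.assoc, reassoc_of% hi, ha, Category.assoc]
  · rw [Category.assoc, Category.assoc, reassoc_of% hr, hb, Category.assoc]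

/-- Comparison of the image of a cone with the cone of the image, naturally. -/
lemma map_coneMap {K₁ L₁ K₂ L₂ : CochainComplex C ℤ} (φ₁ : K₁ ⟶ L₁) (φ₂ : K₂ ⟶ L₂) (a : K₁ ⟶ K₂)
    (b : L₁ ⟶ L₂) (w : φ₁ ≫ b = a ≫ φ₂) :
    (F.mapHomologicalComplex _).map (mappingCone.map φ₁ φ₂ a b w) ≫
        (mappingCone.mapHomologicalComplexIso φ₂ F).hom =
      (mappingCone.mapHomologicalComplexIso φ₁ F).hom ≫
        mappingCone.map ((F.mapHomologicalComplex _).map φ₁) ((F.mapHomologicalComplex _).map φ₂)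
          ((F.mapHomologicalComplex _).map a) ((F.mapHomologicalComplex _).map b)
          (by rw [← Functor.map_comp, ← Functor.map_comp, w]) := by
  refine HomologicalComplex.hom_ext _ _ fun p => ?_
  apply mappingCone.ext_to _ p (p + 1) rfl
  · simp [mappingCone.map, mappingCone.mapHomologicalComplexIso, mappingCone.desc_f _ _ _ _ p (p + 1) rfl,
      mappingCone.mapHomologicalComplexXIso_eq _ F p (p + 1) rfl,
      mappingCone.mapHomologicalComplexXIso']
    refine key _ _ _ ?_ ?_ ?_ ?_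
    · refine (Preadditive.comp_add _ _ _ _ _ _).trans ?_
      refine (congrArg₂ (· + ·) ((Category.assoc _ _ _).symm.trans (congrArg (· ≫ _)
        ((F.map_comp _ _).symm.trans ((congrArg F.map (mappingCone.inl_v_fst_v φ₂ (p + 1) p (by omega))).trans (F.map_id _))))) ((Category.assoc _ _ _).symm.trans (congrArg (· ≫ _)
        ((F.map_comp _ _).symm.trans ((congrArg F.map (mappingCone.inl_v_snd_v φ₂ (p + 1) p (by omega))).trans (F.map_zero _ _)))))).trans ?_
      simp
    · refine (Preadditive.comp_add _ _ _ _ _ _).trans ?_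
      refine (congrArg₂ (· + ·) ((Category.assoc _ _ _).symm.trans (congrArg (· ≫ _)
        ((F.map_comp _ _).symm.trans ((congrArg F.map (mappingCone.inr_f_fst_v φ₂ p (p + 1) rfl)).trans (F.map_zero _ _))))) ((Category.assoc _ _ _).symm.trans (congrArg (· ≫ _)
        ((F.map_comp _ _).symm.trans ((congrArg F.map (mappingCone.inr_f_snd_v φ₂ p)).trans (F.map_id _)))))).trans ?_
      simp
    · refine (congrArg (F.map (a.f (p + 1)) ≫ ·) (mappingCone.inl_v_fst_v _ (p + 1) p (by omega))).trans ?_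
      refine (Eq.trans ?_ (((Category.assoc _ _ _).symm.trans (congrArg (· ≫ F.map (a.f (p + 1)))
        (mappingCone.inl_v_fst_v _ (p + 1) p (by omega))))).symm)
      exact (Category.comp_id _).trans (Category.id_comp _).symm
    · refine (congrArg (F.map (b.f p) ≫ ·) (mappingCone.inr_f_fst_v _ p (p + 1) rfl)).trans ?_
      refine (Eq.trans ?_ (((Category.assoc _ _ _).symm.trans (congrArg (· ≫ F.map (a.f (p + 1)))
        (mappingCone.inr_f_fst_v _ p (p + 1) rfl)))).symm)
      exact comp_zero.trans zero_comp.symm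
  · simp [mappingCone.map, mappingCone.mapHomologicalComplexIso, mappingCone.desc_f _ _ _ _ p (p + 1) rfl,
      mappingCone.mapHomologicalComplexXIso_eq _ F p (p + 1) rfl,
      mappingCone.mapHomologicalComplexXIso']
    refine key _ _ _ ?_ ?_ ?_ ?_
    · refine (Preadditive.comp_add _ _ _ _ _ _).trans ?_
      refine (congrArg₂ (· + ·) ((Category.assoc _ _ _).symm.trans (congrArg (· ≫ _)
        ((F.map_comp _ _).symm.trans ((congrArg F.map (mappingCone.inl_v_fst_v φ₂ (p + 1) p (by omega))).trans (F.map_id _))))) ((Category.assoc _ _ _).symm.trans (congrArg (· ≫ _)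
        ((F.map_comp _ _).symm.trans ((congrArg F.map (mappingCone.inl_v_snd_v φ₂ (p + 1) p (by omega))).trans (F.map_zero _ _)))))).trans ?_
      simp
    · refine (Preadditive.comp_add _ _ _ _ _ _).trans ?_
      refine (congrArg₂ (· + ·) ((Category.assoc _ _ _).symm.trans (congrArg (· ≫ _)
        ((F.map_comp _ _).symm.trans ((congrArg F.map (mappingCone.inr_f_fst_v φ₂ p (p + 1) rfl)).trans (F.map_zero _ _))))) ((Category.assoc _ _ _).symm.trans (congrArg (· ≫ _)
        ((F.map_comp _ _).symm.trans ((congrArg F.map (mappingCone.inr_f_snd_v φ₂ p)).trans (F.map_id _)))))).trans ?_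
      simp
    · refine (congrArg (F.map (a.f (p + 1)) ≫ ·) (mappingCone.inl_v_snd_v _ (p + 1) p (by omega))).trans ?_
      refine (Eq.trans ?_ (((Category.assoc _ _ _).symm.trans (congrArg (· ≫ F.map (b.f p))
        (mappingCone.inl_v_snd_v _ (p + 1) p (by omega))))).symm)
      exact comp_zero.trans zero_comp.symm
    · refine (congrArg (F.map (b.f p) ≫ ·) (mappingCone.inr_f_snd_v _ p)).trans ?_
      refine (Eq.trans ?_ (((Category.assoc _ _ _).symm.trans (congrArg (· ≫ F.map (b.f p))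
        (mappingCone.inr_f_snd_v _ p)))).symm)
      exact (Category.comp_id _).trans (Category.id_comp _).symm

end

end Groth.Agent.DTenPro
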