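import Groth.Agent.DTenPro.Main
import Groth.Agent.H9Misc.DRingLTensor
import Groth.Agent.KFlatLib.BrutalTrunc
import Groth.Agent.KFlatLib.ModuleFlat
import Mathlib.Algebra.Homology.BifunctorShift

/-! Tensoring a bounded complex of finite modules with the augmentation. -/

set_option linter.style.haveILetI false

universe u

open CategoryTheory CategoryTheory.Limits CochainComplex Opposite MonoidalCategory

attribute [local instance] HasDerivedCategory.standard

namespace Groth.Agent.DTenPro

set_option maxHeartbeats 400000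

variable {A : Type u} [CommRing A]

/-- `L ↦ Tot(K ⊗ L)`. -/
noncomputable abbrev tL (K : DRing.Cx A) : DRing.Cx A ⥤ DRing.Cx A :=
  (curriedTensor (ModuleCat.{u} A)).map₂CochainComplex.obj K

/-- The tensored augmentation is a pro-isomorphism. -/
def Good (l : List A) (K : DRing.Cx A) : Prop :=
  DerCA.IsProIso (Functor.whiskerRight (aug l) (tL K ⋙ DerivedCategory.Q))

lemma good_of_iso (l : List A) {K K' : DRing.Cx A} (e : K ≅ K') (h : Good l K) : Good l K' :=
  proIso_natIso (Functor.isoWhiskerRight
    ((curriedTensor (ModuleCat.{u} A)).map₂CochainComplex.mapIso e) DerivedCategory.Q) h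

lemma good_of_isZero (l : List A) {K : DRing.Cx A} (h : IsZero K) : Good l K :=
  proIso_of_isIso _ fun n => by
    have hz : ∀ L, IsZero (DerivedCategory.Q.obj ((tL K).obj L)) := fun L =>
      DerivedCategory.Q.map_isZero (((curriedTensor (ModuleCat.{u} A)).map₂CochainComplex.flip.obj L).map_isZero h)
    refine ⟨0, ?_, ?_⟩
    · exact (hz _).eq_of_src _ _
    · exact (hz _).eq_of_src _ _

/-- `L ↦ (K₁ ⊗ L → K₂ ⊗ L → K₃ ⊗ L)`. -/
noncomputable def tensSeq (S : ShortComplex (DRing.Cx A)) : DRing.Cx A ⥤ ShortComplex (DRing.Cx A) where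
  obj L := S.map ((curriedTensor (ModuleCat.{u} A)).map₂CochainComplex.flip.obj L)
  map {L L'} g :=
    { τ₁ := (tL S.X₁).map g
      τ₂ := (tL S.X₂).map g
      τ₃ := (tL S.X₃).map g
      comm₁₂ := ((curriedTensor (ModuleCat.{u} A)).map₂CochainComplex.map S.f).naturality g
      comm₂₃ := ((curriedTensor (ModuleCat.{u} A)).map₂CochainComplex.map S.g).naturality g }
  map_id L := ShortComplex.Hom.ext ((tL S.X₁).map_id L) ((tL S.X₂).map_id L) ((tL S.X₃).map_id L)
  map_comp g h := ShortComplex.Hom.ext ((tL S.X₁).map_comp g h) ((tL S.X₂).map_comp g h)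
    ((tL S.X₃).map_comp g h)

lemma good_extension (l : List A) (S : ShortComplex (DRing.Cx A))
    (h : ∀ n, Nonempty (S.map (HomologicalComplex.eval _ (ComplexShape.up ℤ) n)).Splitting)
    (h₁ : Good l S.X₁) (h₃ : Good l S.X₃) : Good l S.X₂ :=
  (proIso_two_of_three (S := kTower l ⋙ tensSeq S) (T := (qTower l ⋙ S0) ⋙ tensSeq S)
    (fun _ => KFlatLib.shortExact₁_of_splitting _ S h) (fun _ => KFlatLib.shortExact₁_of_splitting _ S h)
    (Functor.whiskerRight (aug l) (tensSeq S))).2.1 h₁ h₃

lemma good_shift (l : List A) (x : ℤ) {K : DRing.Cx A} (h : Good l K) :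
    Good l ((CategoryTheory.shiftFunctor (DRing.Cx A) x).obj K) := by
  let T := curriedTensor (ModuleCat.{u} A)
  let e : tL ((CategoryTheory.shiftFunctor (DRing.Cx A) x).obj K) ≅
      tL K ⋙ CategoryTheory.shiftFunctor (DRing.Cx A) x :=
    NatIso.ofComponents (fun L => ((T.map₂CochainComplex.flip.obj L).commShiftIso x).app K)
      (fun {L L'} g => (NatTrans.shift_app_comm (T.map₂CochainComplex.flip.map g) x K).symm)
  refine proIso_natIso (Functor.isoWhiskerLeft (tL K) (DerivedCategory.Q.commShiftIso x).symm ≪≫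
    Functor.isoWhiskerRight e.symm DerivedCategory.Q) ?_
  exact proIso_map (CategoryTheory.shiftFunctor (Dual.D A) x) h

variable [IsNoetherianRing A]

lemma good_single₀ (l : List A) (M : ModuleCat.{u} A) [Module.Finite A M] : Good l (S0.obj M) := by
  let T := curriedTensor (ModuleCat.{u} A)
  let e : tL (S0.obj M) ≅ GF (tensorRight M) :=
    (KFlatLib.symmIso KFlatLib.curriedTensorFlipIso (S0.obj M)).symm ≪≫ KFlatLib.singleIso T M
  haveI : PreservesFiniteColimits (tensorRight M) := inferInstance
  refine proIso_natIso (Functor.isoWhiskerRight e.symm DerivedCategory.Q)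
    (proIso_aug (tensorRight M) (fun J => ?_) l)
  change Module.Finite A (TensorProduct A (A ⧸ J) M)
  infer_instance

lemma good_single (l : List A) (n : ℤ) (M : ModuleCat.{u} A) [Module.Finite A M] :
    Good l ((HomologicalComplex.single (ModuleCat.{u} A) (ComplexShape.up ℤ) n).obj M) :=
  good_of_iso l (((CochainComplex.singleFunctors (ModuleCat.{u} A)).shiftIso (-n) n 0 (by omega)).app M)
    (good_shift l (-n) (good_single₀ l M))

/-- Bounded complexes of finite modules are good. -/
theorem good_bounded (l : List A) (a : ℤ) : ∀ (d : ℕ) (K : DRing.Cx A),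
    DRing.VanishesOutside K a (a + d - 1) → (∀ i, Module.Finite A (K.X i)) → Good l K
  | 0, K, hK, _ => good_of_isZero l <| (IsZero.iff_id_eq_zero K).2 <| HomologicalComplex.hom_ext _ _
      fun i => (hK i (by omega)).eq_of_src _ _
  | d + 1, K, hK, hf => by
    let m : ℤ := a + d
    let S := KFlatLib.sigmaSES K m
    have hS := KFlatLib.sigmaSES_shortExact K m
    have hsp : ∀ n, Nonempty (S.map (HomologicalComplex.eval _ (ComplexShape.up ℤ) n)).Splitting := by
      intro n
      have hn := hS.map_of_exact (HomologicalComplex.eval _ (ComplexShape.up ℤ) n)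
      by_cases h : m ≤ n
      · exact ⟨ShortComplex.Splitting.ofIsIsoOfIsZero _ (KFlatLib.isIso_sigmaGEι_f K m n h)
          (((CochainComplex.isStrictlyLE_iff S.X₃ (m - 1)).1 (KFlatLib.isStrictlyLE_sigmaSES_X₃ K m)) n
            (by omega))⟩
      · have hz : IsZero (S.map (HomologicalComplex.eval _ (ComplexShape.up ℤ) n)).X₁ :=
          KFlatLib.isZero_stupidTrunc_of_lt K m n (by omega)
        haveI := hn.epi_g
        haveI := hn.exact.mono_g (hz.eq_of_src _ _)
        exact ⟨ShortComplex.Splitting.ofIsZeroOfIsIso _ hz (isIso_of_mono_of_epi _)⟩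
    refine good_extension l S hsp ?_ (good_bounded l a d S.X₃ ?_ ?_)
    · haveI : S.X₁.IsStrictlyGE m := (CochainComplex.isStrictlyGE_iff _ _).2 fun i hi =>
        KFlatLib.isZero_stupidTrunc_of_lt K m i hi
      haveI : S.X₁.IsStrictlyLE m := (CochainComplex.isStrictlyLE_iff _ _).2 fun i hi => by
        exact (hK i (by omega)).of_iso
          (@asIso _ _ _ _ ((KFlatLib.sigmaGEι K m).f i) (KFlatLib.isIso_sigmaGEι_f K m i hi.le))
      obtain ⟨M, ⟨e⟩⟩ := CochainComplex.exists_iso_single S.X₁ m
      haveI := KFlatLib.isIso_sigmaGEι_f K m m le_rfl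
      let e' : M ≅ K.X m := (HomologicalComplex.singleObjXSelf (ComplexShape.up ℤ) m M).symm ≪≫
        ((HomologicalComplex.eval _ (ComplexShape.up ℤ) m).mapIso e).symm ≪≫
          @asIso _ _ _ _ ((KFlatLib.sigmaGEι K m).f m) (KFlatLib.isIso_sigmaGEι_f K m m le_rfl)
      haveI := hf m
      haveI : Module.Finite A M := Module.Finite.equiv e'.symm.toLinearEquiv
      exact good_of_iso l e.symm (good_single l m M)
    · intro i hi
      by_cases h : m ≤ i
      · exact ((CochainComplex.isStrictlyLE_iff S.X₃ (m - 1)).1 (KFlatLib.isStrictlyLE_sigmaSES_X₃ K m)) i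
          (by omega)
      · obtain ⟨e⟩ := KFlatLib.nonempty_sigmaSES_X₃_iso K m i (by omega)
        exact (hK i (by omega)).of_iso e.symm
    · intro i
      by_cases h : m ≤ i
      · haveI : Subsingleton (S.X₃.X i) := ModuleCat.subsingleton_of_isZero
          (((CochainComplex.isStrictlyLE_iff S.X₃ (m - 1)).1 (KFlatLib.isStrictlyLE_sigmaSES_X₃ K m)) i (by omega))
        exact inferInstance
      · obtain ⟨e⟩ := KFlatLib.nonempty_sigmaSES_X₃_iso K m i (by omega)
        haveI := hf i
        exact Module.Finite.equiv e.toLinearEquiv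

end Groth.Agent.DTenPro
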