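import Groth.Agent.DTenPro.ConeTower
import Groth.Prelude.Def_ega3
import Groth.Prelude.Def_KFlatSite

/-! The tower of Koszul complexes of powers is pro-isomorphic to the tower of quotients. -/

set_option linter.style.haveILetI false

universe u

open CategoryTheory CategoryTheory.Limits CochainComplex Opposite

attribute [local instance] HasDerivedCategory.standard

namespace Groth.Agent.DTenPro

variable {A : Type u} [CommRing A]

section Mul

variable {C : Type*} [Category C] [Preadditive C] [Linear A C]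

/-- The tower `X` with transition maps multiplied by powers of `f`. -/
noncomputable def mulTower (f : A) (X : ℕᵒᵖ ⥤ C) : ℕᵒᵖ ⥤ C where
  obj := X.obj
  map {i j} g := f ^ (i.unop - j.unop) • X.map g
  map_id i := by simp
  map_comp {i j k} g h := by
    have h1 := leOfHom g.unop
    have h2 := leOfHom h.unop
    rw [Linear.smul_comp, Linear.comp_smul, smul_smul, ← pow_add, Functor.map_comp]
    congr 2
    omega

/-- Multiplication by `f^(n+1)`. -/
noncomputable def mulMap (f : A) (X : ℕᵒᵖ ⥤ C) : mulTower f X ⟶ X where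
  app n := f ^ (n.unop + 1) • 𝟙 _
  naturality i j g := by
    have h1 := leOfHom g.unop
    show (f ^ (i.unop - j.unop) • X.map g) ≫ (f ^ (j.unop + 1) • 𝟙 (X.obj j)) = (f ^ (i.unop + 1) • 𝟙 (X.obj i)) ≫ X.map g
    rw [Linear.smul_comp, Linear.comp_smul, Linear.smul_comp, smul_smul, ← pow_add, Category.comp_id,
      Category.id_comp]
    congr 2
    omega

/-- Functoriality of `mulTower`. -/
noncomputable def mulTowerMap (f : A) {X Y : ℕᵒᵖ ⥤ C} (a : X ⟶ Y) : mulTower f X ⟶ mulTower f Y where
  app n := a.app n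
  naturality i j g := by
    show (f ^ (i.unop - j.unop) • X.map g) ≫ a.app j = a.app i ≫ (f ^ (i.unop - j.unop) • Y.map g)
    rw [Linear.smul_comp, Linear.comp_smul, a.naturality]

lemma mulMap_naturality (f : A) {X Y : ℕᵒᵖ ⥤ C} (a : X ⟶ Y) :
    mulMap f X ≫ a = mulTowerMap f a ≫ mulMap f Y := by
  ext n
  show (f ^ (n.unop + 1) • 𝟙 (X.obj n)) ≫ a.app n = a.app n ≫ (f ^ (n.unop + 1) • 𝟙 (Y.obj n))
  simp

lemma proIso_mulTowerMap {E : Type*} [Category E] (H : C ⥤ E) (f : A) {X Y : ℕᵒᵖ ⥤ C} {a : X ⟶ Y}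
    (ha : DerCA.IsProIso (Functor.whiskerRight a H)) :
    DerCA.IsProIso (Functor.whiskerRight (mulTowerMap f a) H) := fun n => by
  obtain ⟨m, hm, b, h1, h2⟩ := ha n
  have e : H.map (f ^ (m - n) • 𝟙 (X.obj (op n))) ≫ H.map (a.app (op n)) =
      H.map (a.app (op n)) ≫ H.map (f ^ (m - n) • 𝟙 (Y.obj (op n))) := by
    rw [← H.map_comp, ← H.map_comp]
    simp
  refine ⟨m, hm, b ≫ H.map (f ^ (m - n) • 𝟙 (X.obj (op n))), ?_, ?_⟩
  · refine ((Category.assoc _ _ _).symm.trans (congrArg (· ≫ _) h1)).trans ?_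
    refine (H.map_comp _ _).symm.trans (congrArg H.map ?_)
    exact (Linear.comp_smul _ _ _ _ _ _).trans (congrArg _ (Category.comp_id _))
  · refine (Category.assoc _ _ _).trans ((congrArg (b ≫ ·) e).trans ?_)
    refine ((Category.assoc _ _ _).symm.trans (congrArg (· ≫ _) h2)).trans ?_
    refine (H.map_comp _ _).symm.trans (congrArg H.map ?_)
    exact (Linear.comp_smul _ _ _ _ _ _).trans (congrArg _ (Category.comp_id _))

end Mul

lemma proIso_natIso {C E : Type*} [Category C] [Category E] {H H' : C ⥤ E} (e : H ≅ H')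
    {X Y : ℕᵒᵖ ⥤ C} {a : X ⟶ Y} (ha : DerCA.IsProIso (Functor.whiskerRight a H)) :
    DerCA.IsProIso (Functor.whiskerRight a H') := fun n => by
  obtain ⟨m, hm, b, h1, h2⟩ := ha n
  have h1' : H.map (a.app (op m)) ≫ b = H.map (ARSys.tr X hm) := h1
  have h2' : b ≫ H.map (a.app (op n)) = H.map (ARSys.tr Y hm) := h2
  refine ⟨m, hm, e.inv.app _ ≫ b ≫ e.hom.app _, ?_, ?_⟩
  · show H'.map (a.app (op m)) ≫ e.inv.app _ ≫ b ≫ e.hom.app _ = H'.map (ARSys.tr X hm)
    rw [e.inv.naturality_assoc, reassoc_of% h1']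
    simp
  · show (e.inv.app _ ≫ b ≫ e.hom.app _) ≫ H'.map (a.app (op n)) = H'.map (ARSys.tr Y hm)
    rw [Category.assoc, Category.assoc, ← e.hom.naturality, reassoc_of% h2']
    simp

/-- Complexes in degree zero. -/
noncomputable abbrev S0 : ModuleCat.{u} A ⥤ CochainComplex (ModuleCat.{u} A) ℤ :=
  HomologicalComplex.single (ModuleCat.{u} A) (ComplexShape.up ℤ) 0

lemma S0_map_smul {M N : ModuleCat.{u} A} (r : A) (g : M ⟶ N) : S0.map (r • g) = r • S0.map g := by
  apply HomologicalComplex.from_single_hom_ext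
  rw [HomologicalComplex.smul_f_apply]
  erw [HomologicalComplex.single_map_f_self, HomologicalComplex.single_map_f_self]
  rw [Linear.smul_comp, Linear.comp_smul]

/-- The ideal generated by the `n+1`-st powers of the entries of a list. -/
def powIdeal (l : List A) (n : ℕ) : Ideal A := Ideal.span ((fun a => a ^ (n + 1)) '' {a | a ∈ l})

lemma powIdeal_antitone (l : List A) {n m : ℕ} (h : n ≤ m) : powIdeal l m ≤ powIdeal l n := by
  refine Ideal.span_le.2 ?_
  rintro x ⟨a, ha, rfl⟩
  show a ^ (m + 1) ∈ powIdeal l n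
  rw [show m + 1 = (m - n) + (n + 1) by omega, pow_add]
  exact Ideal.mul_mem_left _ _ (Ideal.subset_span ⟨a, ha, rfl⟩)

lemma powIdeal_nil (n : ℕ) : powIdeal ([] : List A) n = ⊥ := by
  simp [powIdeal]

lemma powIdeal_cons (f : A) (l : List A) (n : ℕ) :
    powIdeal (f :: l) n = Ideal.span {f ^ (n + 1)} ⊔ powIdeal l n := by
  rw [powIdeal, powIdeal, ← Ideal.span_union]
  congr 1
  ext x
  simp
  tauto

/-- The quotient module map. -/
noncomputable def factorHom {J J' : Ideal A} (h : J ≤ J') :
    ModuleCat.of A (A ⧸ J) ⟶ ModuleCat.of A (A ⧸ J') :=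
  ModuleCat.ofHom (Submodule.factor h)

lemma factorHom_comp {J J' J'' : Ideal A} (h : J ≤ J') (h' : J' ≤ J'') :
    factorHom h ≫ factorHom h' = factorHom (h.trans h') := by
  refine ModuleCat.hom_ext (LinearMap.ext fun x => ?_)
  obtain ⟨a, rfl⟩ := Submodule.mkQ_surjective _ x
  rfl

lemma factorHom_refl (J : Ideal A) : factorHom (le_refl J) = 𝟙 _ := by
  refine ModuleCat.hom_ext (LinearMap.ext fun x => ?_)
  obtain ⟨a, rfl⟩ := Submodule.mkQ_surjective _ x
  rfl

lemma epi_factorHom {J J' : Ideal A} (h : J ≤ J') : Epi (factorHom h) := by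
  rw [ModuleCat.epi_iff_surjective]
  intro x
  obtain ⟨a, rfl⟩ := Submodule.mkQ_surjective _ x
  exact ⟨Submodule.Quotient.mk a, rfl⟩

/-- The tower of quotients by ideals of powers. -/
noncomputable def qTower (l : List A) : ℕᵒᵖ ⥤ ModuleCat.{u} A where
  obj n := ModuleCat.of A (A ⧸ powIdeal l n.unop)
  map {i j} g := factorHom (powIdeal_antitone l (leOfHom g.unop))
  map_id i := factorHom_refl _
  map_comp g h := (factorHom_comp _ _).symm

lemma cons_le (f : A) (l : List A) (n : ℕ) : powIdeal l n ≤ powIdeal (f :: l) n := by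
  rw [powIdeal_cons]
  exact le_sup_right

lemma smul_factor_eq_zero (f : A) (l : List A) (n : ℕ) :
    f ^ (n + 1) • factorHom (cons_le f l n) = 0 := by
  refine ModuleCat.hom_ext (LinearMap.ext fun x => ?_)
  obtain ⟨a, rfl⟩ := Submodule.mkQ_surjective _ x
  show f ^ (n + 1) • (Submodule.Quotient.mk a : A ⧸ powIdeal (f :: l) n) = 0
  rw [← Submodule.Quotient.mk_smul, Submodule.Quotient.mk_eq_zero, powIdeal_cons, smul_eq_mul]
  exact Ideal.mul_mem_right _ _ (Ideal.mem_sup_left (Ideal.subset_span rfl))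

/-- The cone of multiplication on the quotients maps to the smaller quotient. -/
noncomputable def ν (f : A) (l : List A) :
    coneTower (mulMap f (qTower l ⋙ S0)) ⟶ qTower (f :: l) ⋙ S0 where
  app n := mappingCone.desc _ 0 (S0.map (factorHom (cons_le f l n.unop))) (by
    rw [HomComplex.δ_zero, ← HomComplex.Cochain.ofHom_zero]
    congr 1
    show 0 = (f ^ (n.unop + 1) • 𝟙 _) ≫ S0.map _
    exact ((Linear.smul_comp _ _ _ _ _ _).trans ((congrArg _ (Category.id_comp _)).trans
      ((S0_map_smul _ _).symm.trans ((congrArg S0.map (smul_factor_eq_zero f l n.unop)).trans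
        (Functor.map_zero S0 _ _))))).symm)
  naturality i j g := by
    refine HomologicalComplex.hom_ext _ _ fun p => ?_
    apply mappingCone.ext_from _ (p + 1) p rfl
    · simp [coneTower, mappingCone.map]
    · simp [coneTower, mappingCone.map]
      rw [← HomologicalComplex.comp_f, ← HomologicalComplex.comp_f, ← Functor.map_comp, ← Functor.map_comp]
      congr 2
      exact (factorHom_comp _ _).trans (factorHom_comp _ _).symm

/-- The tower of Koszul complexes. -/
noncomputable def kTower : List A → (ℕᵒᵖ ⥤ CochainComplex (ModuleCat.{u} A) ℤ)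
  | [] => (Functor.const ℕᵒᵖ).obj (S0.obj (ModuleCat.of A A))
  | f :: l => coneTower (mulMap f (kTower l))

/-- The quotient map, as a morphism of `ModuleCat`. -/
noncomputable def mkHom (J : Ideal A) : ModuleCat.of A A ⟶ ModuleCat.of A (A ⧸ J) :=
  ModuleCat.ofHom (Submodule.mkQ J)

lemma mkQ_factorHom {J J' : Ideal A} (h : J ≤ J') : mkHom J ≫ factorHom h = mkHom J' :=
  ModuleCat.hom_ext (LinearMap.ext fun _ => rfl)

/-- The augmentation for the empty list. -/
noncomputable def aug₀ :
    (Functor.const ℕᵒᵖ).obj (S0.obj (ModuleCat.of A A)) ⟶ qTower ([] : List A) ⋙ S0 where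
  app n := S0.map (mkHom (powIdeal [] n.unop))
  naturality i j g := by
    refine (Category.id_comp _).trans ?_
    refine Eq.trans (congrArg S0.map (mkQ_factorHom (powIdeal_antitone [] (leOfHom g.unop))).symm) ?_
    exact S0.map_comp (mkHom (powIdeal [] i.unop)) _

/-- The augmentation. -/
noncomputable def aug : ∀ l : List A, kTower l ⟶ qTower l ⋙ S0
  | [] => aug₀
  | f :: l => coneMap _ _ (mulTowerMap f (aug l)) (aug l) (mulMap_naturality f (aug l)) ≫ ν f l

end Groth.Agent.DTenPro
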