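import Groth.Agent.DTenPro.Base
import Mathlib.Algebra.Homology.ShortComplex.ExactFunctor

/-! The base case: a right exact linear functor applied to the augmentation. -/

set_option linter.style.haveILetI false

universe u

open CategoryTheory CategoryTheory.Limits CochainComplex Opposite

attribute [local instance] HasDerivedCategory.standard

namespace Groth.Agent.DTenPro

set_option maxHeartbeats 400000

variable {A : Type u} [CommRing A]

lemma shortExact_map_coneSeq (G : CochainComplex (ModuleCat.{u} A) ℤ ⥤ CochainComplex (ModuleCat.{u} A) ℤ)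
    [G.PreservesZeroMorphisms]
    (hG : ∀ S : ShortComplex (CochainComplex (ModuleCat.{u} A) ℤ),
      (∀ n, Nonempty (S.map (HomologicalComplex.eval _ (ComplexShape.up ℤ) n)).Splitting) →
        (S.map G).ShortExact)
    {X Y : ℕᵒᵖ ⥤ CochainComplex (ModuleCat.{u} A) ℤ} (φ : X ⟶ Y) (n : ℕᵒᵖ) :
    ((coneSeqTower φ ⋙ G.mapShortComplex).obj n).ShortExact :=
  hG _ fun k => ⟨coneSeqSplitting (φ.app n) k⟩

/-- The tower map `A/J_l → A/J_(f::l)`. -/
noncomputable def factorTower (f : A) (l : List A) : qTower l ⟶ qTower (f :: l) where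
  app n := factorHom (cons_le f l n.unop)
  naturality _ _ _ := (factorHom_comp _ _).trans (factorHom_comp _ _).symm

lemma mulMap_factor (f : A) (l : List A) (n : ℕ) :
    (f ^ (n + 1) • 𝟙 ((qTower l).obj (op n))) ≫ (factorTower f l).app (op n) = 0 :=
  (Linear.smul_comp _ _ _ _ _ _).trans
    ((congrArg _ (Category.id_comp _)).trans (smul_factor_eq_zero f l n))

lemma factor_exact (f : A) (l : List A) (n : ℕ) :
    (ShortComplex.mk _ _ (mulMap_factor f l n)).Exact := by
  rw [ShortComplex.moduleCat_exact_iff]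
  intro y hy
  obtain ⟨a, rfl⟩ := Submodule.mkQ_surjective _ y
  have h : a ∈ powIdeal (f :: l) n := (Submodule.Quotient.mk_eq_zero _).1 hy
  rw [powIdeal_cons, Submodule.mem_sup] at h
  obtain ⟨b, hb, c, hc, rfl⟩ := h
  obtain ⟨r, rfl⟩ := Ideal.mem_span_singleton'.1 hb
  refine ⟨Submodule.Quotient.mk r, ?_⟩
  show f ^ (n + 1) • (Submodule.Quotient.mk r : A ⧸ powIdeal l n) = Submodule.Quotient.mk (r * f ^ (n + 1) + c)
  rw [← Submodule.Quotient.mk_smul, Submodule.Quotient.eq, smul_eq_mul]
  convert (powIdeal l n).neg_mem hc using 1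
  ring

lemma isIso_mkHom {J : Ideal A} (h : J = ⊥) : IsIso (mkHom J) := by
  subst h
  rw [ConcreteCategory.isIso_iff_bijective]
  refine ⟨fun x y hxy => ?_, Submodule.mkQ_surjective _⟩
  exact sub_eq_zero.1 ((Submodule.mem_bot A).1 ((Submodule.Quotient.eq _).1 hxy))

lemma shiftQIso (G : CochainComplex (ModuleCat.{u} A) ℤ ⥤ CochainComplex (ModuleCat.{u} A) ℤ)
    [G.CommShift ℤ] :
    Nonempty ((G ⋙ DerivedCategory.Q) ⋙ CategoryTheory.shiftFunctor (Dual.D A) (1 : ℤ) ≅
      CategoryTheory.shiftFunctor (CochainComplex (ModuleCat.{u} A) ℤ) (1 : ℤ) ⋙ G ⋙ DerivedCategory.Q) :=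
  ⟨((G ⋙ DerivedCategory.Q).commShiftIso (1 : ℤ)).symm⟩

section

variable (G : CochainComplex (ModuleCat.{u} A) ℤ ⥤ CochainComplex (ModuleCat.{u} A) ℤ)
  [G.PreservesZeroMorphisms] [G.CommShift ℤ]
  (hG : ∀ S : ShortComplex (CochainComplex (ModuleCat.{u} A) ℤ),
    (∀ n, Nonempty (S.map (HomologicalComplex.eval _ (ComplexShape.up ℤ) n)).Splitting) →
      (S.map G).ShortExact)

include hG in
/-- The cone step. -/
theorem proIso_coneMap (f : A) {X Y : ℕᵒᵖ ⥤ CochainComplex (ModuleCat.{u} A) ℤ} (a : X ⟶ Y)
    (ha : DerCA.IsProIso (Functor.whiskerRight a (G ⋙ DerivedCategory.Q))) :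
    DerCA.IsProIso (Functor.whiskerRight
      (coneMap _ _ (mulTowerMap f a) a (mulMap_naturality f a)) (G ⋙ DerivedCategory.Q)) := by
  obtain ⟨e⟩ := shiftQIso G
  have h3 : DerCA.IsProIso (Functor.whiskerRight (mulTowerMap f a)
      (CategoryTheory.shiftFunctor _ (1 : ℤ) ⋙ G ⋙ DerivedCategory.Q)) :=
    proIso_natIso e (Groth.Agent.TowerLib.EssConst.proIso_shift
      (proIso_mulTowerMap (G ⋙ DerivedCategory.Q) f ha))
  exact (proIso_two_of_three (shortExact_map_coneSeq G hG _) (shortExact_map_coneSeq G hG _)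
    (Functor.whiskerRight (coneSeqMap _ _ (mulTowerMap f a) a (mulMap_naturality f a))
      G.mapShortComplex)).2.1 ha h3

end

section Base

variable (F : ModuleCat.{u} A ⥤ ModuleCat.{u} A) [F.Additive] [F.Linear A] [PreservesFiniteColimits F]

omit [PreservesFiniteColimits F] [F.Linear A] in
lemma shortExact_GF (S : ShortComplex (CochainComplex (ModuleCat.{u} A) ℤ))
    (h : ∀ n, Nonempty (S.map (HomologicalComplex.eval _ (ComplexShape.up ℤ) n)).Splitting) :
    (S.map (GF F)).ShortExact :=
  HomologicalComplex.shortExact_of_degreewise_shortExact _ fun n => ((h n).some.map F).shortExact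

lemma map_factor_zero (f : A) (l : List A) (n : ℕ) :
    (f ^ (n + 1) • 𝟙 ((qTower l ⋙ F).obj (op n))) ≫
      (Functor.whiskerRight (factorTower f l) F).app (op n) = 0 := by
  have h := congrArg F.map (mulMap_factor f l n)
  rw [Functor.map_comp, Functor.map_smul, CategoryTheory.Functor.map_id, Functor.map_zero] at h
  exact h

theorem proIso_ν [IsNoetherianRing A] (hfin : ∀ J : Ideal A, Module.Finite A (F.obj (ModuleCat.of A (A ⧸ J))))
    (f : A) (l : List A) :
    DerCA.IsProIso (Functor.whiskerRight (ν f l) (GF F ⋙ DerivedCategory.Q)) := by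
  let π := Functor.whiskerRight (factorTower f l) F
  have hR := ((Functor.preservesFiniteColimits_tfae F).out 3 1).1
    (inferInstance : PreservesFiniteColimits F)
  have hex : ∀ n : ℕ, (ShortComplex.mk _ _ (map_factor_zero F f l n)).Exact := fun n => by
    refine ShortComplex.exact_of_iso ?_ (hR _ ⟨factor_exact f l n, epi_factorHom _⟩).1
    refine ShortComplex.isoMk (Iso.refl _) (Iso.refl _) (Iso.refl _) ?_ ?_
    · exact (Category.id_comp _).trans (((F.map_smul _ _).trans (congrArg _ (F.map_id _))).symm.trans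
        (Category.comp_id _).symm)
    · exact (Category.id_comp _).trans (Category.comp_id _).symm
  have hepi : ∀ n, Epi (π.app n) := fun n =>
    (hR _ ⟨factor_exact f l n.unop, epi_factorHom _⟩).2
  have hN : ∀ n, IsNoetherian A ((qTower l ⋙ F).obj n) := fun n => by
    haveI := hfin (powIdeal l n.unop)
    exact isNoetherian_of_isNoetherianRing_of_finite A (F.obj (ModuleCat.of A (A ⧸ powIdeal l n.unop)))
  have hq := proIso_coneQuot f π (map_factor_zero F f l) hN hex hepi
  let E := Functor.isoWhiskerRight (coneIso F f (qTower l)) DerivedCategory.Q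
  let T := Functor.isoWhiskerRight (Functor.isoWhiskerLeft (qTower (f :: l)) (σIso F)) DerivedCategory.Q
  have key : Functor.whiskerRight (ν f l) (GF F ⋙ DerivedCategory.Q) =
      E.hom ≫ Functor.whiskerRight (coneQuot f π (map_factor_zero F f l)) DerivedCategory.Q ≫ T.inv := by
    refine Eq.trans ?_ (Category.assoc _ _ _)
    refine ((Iso.eq_comp_inv T).2 ?_)
    ext n
    show DerivedCategory.Q.map ((GF F).map ((ν f l).app n)) ≫
        DerivedCategory.Q.map ((σIso F).hom.app ((qTower (f :: l)).obj n)) =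
      DerivedCategory.Q.map (coneAppIso F f (qTower l) n).hom ≫
        DerivedCategory.Q.map ((coneQuot f π (map_factor_zero F f l)).app n)
    rw [← DerivedCategory.Q.map_comp, ← DerivedCategory.Q.map_comp]
    congr 1
    have hz0 : (mulMap f (qTower l ⋙ S0)).app n ≫ S0.map (factorHom (cons_le f l n.unop)) = 0 :=
      (Linear.smul_comp _ _ _ _ _ _).trans ((congrArg _ (Category.id_comp _)).trans
        ((S0_map_smul _ _).symm.trans ((congrArg S0.map (smul_factor_eq_zero f l n.unop)).trans
          (Functor.map_zero S0 _ _))))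
    have hz : (GF F).map ((mulMap f (qTower l ⋙ S0)).app n) ≫
        (GF F).map (S0.map (factorHom (cons_le f l n.unop))) = 0 := by
      rw [← Functor.map_comp]
      exact (congrArg (GF F).map hz0).trans (Functor.map_zero _ _ _)
    refine (congrArg (· ≫ _) (map_desc₀ F _ _ (δ_zero_eq hz0) (δ_zero_eq hz))).trans
      ((Category.assoc _ _ _).trans (Eq.trans ?_ (Category.assoc _ _ _).symm))
    refine congrArg ((mappingCone.mapHomologicalComplexIso _ F).hom ≫ ·) ?_
    refine (desc_comp_eq _ _ _ rfl _ (δ_zero_eq ((Category.assoc _ _ _).symm.trans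
      ((congrArg (· ≫ _) hz).trans zero_comp)))).trans (map_desc_eq _ _ (σIso_comm F _ ((qTower l).obj n)) _ _ ?_
        (δ_zero_eq ((S0.map_comp _ _).symm.trans ((congrArg S0.map (map_factor_zero F f l n.unop)).trans
          (Functor.map_zero S0 _ _)))) _).symm
    exact ((σIso F).hom.naturality ((factorTower f l).app n)).symm
  rw [key]
  exact proIso_comp (proIso_of_isIso _ fun _ => inferInstance)
    (proIso_comp hq (proIso_of_isIso _ fun _ => inferInstance))

/-- The augmentation becomes a pro-isomorphism after a right exact functor with finite values. -/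
theorem proIso_aug [IsNoetherianRing A]
    (hfin : ∀ J : Ideal A, Module.Finite A (F.obj (ModuleCat.of A (A ⧸ J)))) :
    ∀ l : List A, DerCA.IsProIso (Functor.whiskerRight (aug l) (GF F ⋙ DerivedCategory.Q))
  | [] => proIso_of_isIso _ fun n => by
    haveI := isIso_mkHom (powIdeal_nil (A := A) n)
    show IsIso (DerivedCategory.Q.map ((GF F).map (S0.map (mkHom (powIdeal [] n)))))
    infer_instance
  | f :: l => by
    show DerCA.IsProIso (Functor.whiskerRight
      (coneMap _ _ (mulTowerMap f (aug l)) (aug l) (mulMap_naturality f (aug l)) ≫ ν f l) _)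
    rw [Functor.whiskerRight_comp]
    exact proIso_comp (proIso_coneMap (GF F) (shortExact_GF F) f (aug l) (proIso_aug hfin l))
      (proIso_ν F hfin f l)

end Base

end Groth.Agent.DTenPro
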