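import Mathlib.Algebra.Homology.DerivedCategory.ShortExact
import Groth.Agent.TowerLib.ProIso

/-! Pro-isomorphisms of towers: composition and short exact sequences of complexes. -/

universe w v u

open CategoryTheory CategoryTheory.Limits CategoryTheory.Pretriangulated Opposite

namespace Groth.Agent.DTenPro

open Groth.Agent.TowerLib.EssConst

section

variable {C : Type*} [Category C]

lemma proIso_of_isIso {X Y : ARSys.PS C} (f : X ⟶ Y) (h : ∀ n : ℕ, IsIso (f.app (op n))) :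
    DerCA.IsProIso f := fun n => by
  haveI := h n
  refine ⟨n, le_rfl, inv (f.app (op n)), ?_, ?_⟩ <;> simp [tr_refl]

lemma proIso_comp {X Y Z : ARSys.PS C} {f : X ⟶ Y} {g : Y ⟶ Z} (hf : DerCA.IsProIso f)
    (hg : DerCA.IsProIso g) : DerCA.IsProIso (f ≫ g) := fun n => by
  obtain ⟨m, hm, b, h1, h2⟩ := hf n
  obtain ⟨p, hp, c, k1, k2⟩ := hg m
  refine ⟨p, hm.trans hp, c ≫ b, ?_, ?_⟩
  · rw [NatTrans.comp_app, Category.assoc, reassoc_of% k1, ← reassoc_of% (tr_nat f hp), h1,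
      tr_comp X hm hp]
  · rw [NatTrans.comp_app, Category.assoc, reassoc_of% h2, tr_nat g hm, reassoc_of% k2,
      tr_comp Z hm hp]

lemma proIso_of_comp_left {X Y Z : ARSys.PS C} {f : X ⟶ Y} {g : Y ⟶ Z} (hf : DerCA.IsProIso f)
    (hfg : DerCA.IsProIso (f ≫ g)) : DerCA.IsProIso g := fun n => by
  obtain ⟨m, hm, c, k1, k2⟩ := hfg n
  obtain ⟨p, hp, b, h1, h2⟩ := hf m
  rw [NatTrans.comp_app] at k1 k2
  refine ⟨p, hm.trans hp, ?_, ?_, ?_⟩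
  · exact ARSys.tr Z hp ≫ c ≫ f.app (op n)
  · rw [← reassoc_of% (tr_nat g hp), ← reassoc_of% h2]
    simp only [Category.assoc] at k1 ⊢
    rw [reassoc_of% k1, tr_nat f hm, reassoc_of% h2, tr_comp Y hm hp]
  · simp only [Category.assoc]
    rw [k2, tr_comp Z hm hp]

lemma proIso_map {D : Type*} [Category D] (F : C ⥤ D) {X Y : ARSys.PS C} {f : X ⟶ Y}
    (hf : DerCA.IsProIso f) : DerCA.IsProIso (Functor.whiskerRight f F) := fun n => by
  obtain ⟨m, hm, b, h1, h2⟩ := hf n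
  refine ⟨m, hm, F.map b, ?_, ?_⟩
  · exact (F.map_comp _ _).symm.trans (congrArg F.map h1)
  · exact (F.map_comp _ _).symm.trans (congrArg F.map h2)

end

section

variable {C : Type u} [Category.{v} C] [Preadditive C] [HasZeroObject C] [HasShift C ℤ]
  [∀ n : ℤ, (shiftFunctor C n).Additive] [Pretriangulated C]

omit [HasZeroObject C] [Pretriangulated C] in
lemma proIso_unshift {X Y : ARSys.PS C} {f : X ⟶ Y}
    (hf : DerCA.IsProIso (Functor.whiskerRight f (shiftFunctor C (1 : ℤ)))) : DerCA.IsProIso f :=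
  fun n => by
    obtain ⟨m, h, b, h1, h2⟩ := hf n
    refine ⟨m, h, (shiftFunctor C (1 : ℤ)).preimage b, (shiftFunctor C (1 : ℤ)).map_injective ?_,
      (shiftFunctor C (1 : ℤ)).map_injective ?_⟩
    · rw [Functor.map_comp, Functor.map_preimage]
      exact h1
    · rw [Functor.map_comp, Functor.map_preimage]
      exact h2

variable {X₁ X₂ X₃ Y₁ Y₂ Y₃ : ARSys.PS C}
  {aX : X₁ ⟶ X₂} {qX : X₂ ⟶ X₃} {hX : X₃ ⟶ X₁ ⋙ shiftFunctor C (1 : ℤ)}
  {aY : Y₁ ⟶ Y₂} {qY : Y₂ ⟶ Y₃} {hY : Y₃ ⟶ Y₁ ⋙ shiftFunctor C (1 : ℤ)}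
  (hTX : ∀ n : ℕ, Triangle.mk (aX.app (op n)) (qX.app (op n)) (hX.app (op n)) ∈ distTriang C)
  (hTY : ∀ n : ℕ, Triangle.mk (aY.app (op n)) (qY.app (op n)) (hY.app (op n)) ∈ distTriang C)
  {f₁ : X₁ ⟶ Y₁} {f₂ : X₂ ⟶ Y₂} {f₃ : X₃ ⟶ Y₃}
  (c1 : ∀ n, aX.app (op n) ≫ f₂.app (op n) = f₁.app (op n) ≫ aY.app (op n))
  (c2 : ∀ n, qX.app (op n) ≫ f₃.app (op n) = f₂.app (op n) ≫ qY.app (op n))
  (c3 : ∀ n, hX.app (op n) ≫ (f₁.app (op n))⟦(1 : ℤ)⟧' = f₃.app (op n) ≫ hY.app (op n))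

include hTX hTY c1 c2 c3 in
lemma proIso_third (h₁ : DerCA.IsProIso f₁) (h₂ : DerCA.IsProIso f₂) : DerCA.IsProIso f₃ := by
  let sX : X₁ ⋙ shiftFunctor C (1 : ℤ) ⟶ X₂ ⋙ shiftFunctor C (1 : ℤ) :=
    -Functor.whiskerRight aX (shiftFunctor C (1 : ℤ))
  let sY : Y₁ ⋙ shiftFunctor C (1 : ℤ) ⟶ Y₂ ⋙ shiftFunctor C (1 : ℤ) :=
    -Functor.whiskerRight aY (shiftFunctor C (1 : ℤ))
  refine proIso_middle (aX := qX) (qX := hX) (hX := sX) (aY := qY) (qY := hY) (hY := sY)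
    (fun n => ?_) (fun n => ?_) (f₁ := f₂) (f₃ := Functor.whiskerRight f₁ (shiftFunctor C (1 : ℤ)))
    c2 c3 (fun n => ?_) h₂ (proIso_shift h₁)
  · exact rot_of_distTriang _ (hTX n)
  · exact rot_of_distTriang _ (hTY n)
  · show (-(aX.app (op n))⟦(1 : ℤ)⟧') ≫ (f₂.app (op n))⟦(1 : ℤ)⟧' =
      (f₁.app (op n))⟦(1 : ℤ)⟧' ≫ (-(aY.app (op n))⟦(1 : ℤ)⟧')
    rw [Preadditive.neg_comp, Preadditive.comp_neg, ← Functor.map_comp, ← Functor.map_comp, c1 n]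

include hTX hTY c1 c2 c3 in
lemma proIso_first (h₂ : DerCA.IsProIso f₂) (h₃ : DerCA.IsProIso f₃) : DerCA.IsProIso f₁ := by
  let sX : X₁ ⋙ shiftFunctor C (1 : ℤ) ⟶ X₂ ⋙ shiftFunctor C (1 : ℤ) :=
    -Functor.whiskerRight aX (shiftFunctor C (1 : ℤ))
  let sY : Y₁ ⋙ shiftFunctor C (1 : ℤ) ⟶ Y₂ ⋙ shiftFunctor C (1 : ℤ) :=
    -Functor.whiskerRight aY (shiftFunctor C (1 : ℤ))
  refine proIso_unshift (proIso_middle (aX := hX) (qX := sX)
    (hX := -Functor.whiskerRight qX (shiftFunctor C (1 : ℤ))) (aY := hY) (qY := sY)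
    (hY := -Functor.whiskerRight qY (shiftFunctor C (1 : ℤ)))
    (fun n => ?_) (fun n => ?_) (f₁ := f₃)
    (f₂ := Functor.whiskerRight f₁ (shiftFunctor C (1 : ℤ)))
    (f₃ := Functor.whiskerRight f₂ (shiftFunctor C (1 : ℤ))) c3 (fun n => ?_) (fun n => ?_) h₃
    (proIso_shift h₂))
  · exact rot_of_distTriang _ (rot_of_distTriang _ (hTX n))
  · exact rot_of_distTriang _ (rot_of_distTriang _ (hTY n))
  · show (-(aX.app (op n))⟦(1 : ℤ)⟧') ≫ (f₂.app (op n))⟦(1 : ℤ)⟧' =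
      (f₁.app (op n))⟦(1 : ℤ)⟧' ≫ (-(aY.app (op n))⟦(1 : ℤ)⟧')
    rw [Preadditive.neg_comp, Preadditive.comp_neg, ← Functor.map_comp, ← Functor.map_comp, c1 n]
  · show (-(qX.app (op n))⟦(1 : ℤ)⟧') ≫ (f₃.app (op n))⟦(1 : ℤ)⟧' =
      (f₂.app (op n))⟦(1 : ℤ)⟧' ≫ (-(qY.app (op n))⟦(1 : ℤ)⟧')
    rw [Preadditive.neg_comp, Preadditive.comp_neg, ← Functor.map_comp, ← Functor.map_comp, c2 n]

end

section SES

open DerivedCategory

variable {A : Type u} [Category.{v} A] [Abelian A] [HasDerivedCategory.{w} A]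
  {S T : ℕᵒᵖ ⥤ ShortComplex (CochainComplex A ℤ)} (hS : ∀ n, (S.obj n).ShortExact)
  (hT : ∀ n, (T.obj n).ShortExact) (φ : S ⟶ T)

/-- The connecting maps of a tower of short exact sequences. -/
noncomputable def δTower :
    S ⋙ ShortComplex.π₃ ⋙ Q ⟶ (S ⋙ ShortComplex.π₁ ⋙ Q) ⋙ shiftFunctor (DerivedCategory A) (1 : ℤ) where
  app n := triangleOfSESδ (hS n)
  naturality m n f := (triangleOfSES.map (hS m) (hS n) (S.map f)).comm₃.symm

include hS hT in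
/-- Two out of three for pro-isomorphisms along towers of short exact sequences. -/
theorem proIso_two_of_three :
    let f₁ := Functor.whiskerRight φ (ShortComplex.π₁ ⋙ Q)
    let f₂ := Functor.whiskerRight φ (ShortComplex.π₂ ⋙ Q)
    let f₃ := Functor.whiskerRight φ (ShortComplex.π₃ ⋙ Q)
    (DerCA.IsProIso f₁ → DerCA.IsProIso f₂ → DerCA.IsProIso f₃) ∧
      (DerCA.IsProIso f₁ → DerCA.IsProIso f₃ → DerCA.IsProIso f₂) ∧
      (DerCA.IsProIso f₂ → DerCA.IsProIso f₃ → DerCA.IsProIso f₁) := by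
  let a : ∀ R : ℕᵒᵖ ⥤ ShortComplex (CochainComplex A ℤ),
      R ⋙ ShortComplex.π₁ ⋙ Q ⟶ R ⋙ ShortComplex.π₂ ⋙ Q := fun R =>
    Functor.whiskerLeft R (Functor.whiskerRight ShortComplex.π₁Toπ₂ Q)
  let q : ∀ R : ℕᵒᵖ ⥤ ShortComplex (CochainComplex A ℤ),
      R ⋙ ShortComplex.π₂ ⋙ Q ⟶ R ⋙ ShortComplex.π₃ ⋙ Q := fun R =>
    Functor.whiskerLeft R (Functor.whiskerRight ShortComplex.π₂Toπ₃ Q)
  have hTS : ∀ n : ℕ, Triangle.mk ((a S).app (op n)) ((q S).app (op n)) ((δTower hS).app (op n)) ∈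
      distTriang _ := fun n => triangleOfSES_distinguished (hS (op n))
  have hTT : ∀ n : ℕ, Triangle.mk ((a T).app (op n)) ((q T).app (op n)) ((δTower hT).app (op n)) ∈
      distTriang _ := fun n => triangleOfSES_distinguished (hT (op n))
  let M : ∀ n : ℕ, triangleOfSES (hS (op n)) ⟶ triangleOfSES (hT (op n)) := fun n =>
    triangleOfSES.map (hS (op n)) (hT (op n)) (φ.app (op n))
  intro f₁ f₂ f₃
  exact ⟨fun h₁ h₂ => proIso_third hTS hTT (f₁ := f₁) (f₂ := f₂) (f₃ := f₃)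
      (fun n => (M n).comm₁) (fun n => (M n).comm₂) (fun n => (M n).comm₃) h₁ h₂,
    fun h₁ h₃ => proIso_middle hTS hTT (f₁ := f₁) (f₂ := f₂) (f₃ := f₃)
      (fun n => (M n).comm₁) (fun n => (M n).comm₂)
      (fun n => (M n).comm₃) h₁ h₃,
    fun h₂ h₃ => proIso_first hTS hTT (f₁ := f₁) (f₂ := f₂) (f₃ := f₃)
      (fun n => (M n).comm₁) (fun n => (M n).comm₂)
      (fun n => (M n).comm₃) h₂ h₃⟩

end SES

end Groth.Agent.DTenPro
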